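import Groth.Prelude.Def_DerSch2
import Groth.Agent.AffPushPCLib.Main
import Groth.Agent.ProjClosedImmLib.Main
import Groth.Agent.RelPCLib.AwayGen

/-!
# Pseudo-coherence relative to a morphism, read on affine charts
-/

set_option autoImplicit false
set_option linter.style.haveILetI false
set_option backward.isDefEq.respectTransparency false
set_option backward.isDefEq.respectTransparency.types false

universe u

open CategoryTheory CategoryTheory.Limits AlgebraicGeometry Opposite TopologicalSpace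

attribute [local instance] HasDerivedCategory.standard

namespace Groth.Agent.FlatRelPCLib

open Groth.Agent.PerfLib (resD res)
open Groth.Agent.DerLib

/-- `tilde` is left exact. -/
theorem tildeExact (A : CommRingCat.{u}) : PreservesFiniteLimits (tilde.functor A) :=
  HensSchLib.tilde_preservesFiniteLimits _

attribute [local instance] tildeExact

variable {X S : Scheme.{u}} (f : X ⟶ S)

/-- The module complex of `E` on an affine open. -/
def Mod (E : DCoh.D X) {U : X.Opens} (hU : IsAffineOpen U) (M : Dual.D Γ(X, U)) : Prop :=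
  Nonempty ((DCoh.tildeD (X.presheaf.obj (op U))).obj M ≅ (resD hU.fromSpec).obj E)

theorem exists_mod {E : DCoh.D X} (hE : DCoh.IsQCohD E) {U : X.Opens} (hU : IsAffineOpen U) :
    ∃ M, Mod E hU M :=
  (TildeDerLib.isQCohD_iff (X.presheaf.obj (op U)) _).1 (AffPushPCLib.isQCohD_res hU.fromSpec hE)

theorem nonempty_iso_of_tildeD {A : CommRingCat.{u}} {M N : Dual.D A}
    (e : (DCoh.tildeD A).obj M ≅ (DCoh.tildeD A).obj N) : Nonempty (M ≅ N) :=
  ⟨(asIso (TildeDerLib.adjD A).unit).app M ≪≫ (TildeDerLib.RGamma A).mapIso e ≪≫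
    ((asIso (TildeDerLib.adjD A).unit).app N).symm⟩

theorem Mod.unique {E : DCoh.D X} {U : X.Opens} {hU : IsAffineOpen U} {M N : Dual.D Γ(X, U)}
    (hM : Mod E hU M) (hN : Mod E hU N) : Nonempty (M ≅ N) := by
  obtain ⟨a⟩ := hM
  obtain ⟨b⟩ := hN
  exact nonempty_iso_of_tildeD (a ≪≫ b.symm)

theorem nonempty_resD_congr {T : Scheme.{u}} {q q' : T ⟶ X} [IsOpenImmersion q] [IsOpenImmersion q']
    (h : q = q') (E : DCoh.D X) : Nonempty ((resD q).obj E ≅ (resD q').obj E) := by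
  subst h
  exact ⟨Iso.refl _⟩

/-- Moving a restricted complex to the spectrum of the sections. -/
theorem nonempty_pushIsoSpec {U : X.Opens} (hU : IsAffineOpen U) (G : CochainComplex X.Modules ℤ) :
    Nonempty (DCoh.toD _ ((DerSch.pushCx hU.isoSpec.hom).obj ((DCoh.restrictCx U).obj G)) ≅
      (resD hU.fromSpec).obj (DCoh.toD X G)) := by
  let ν : Scheme.Modules.restrictFunctor hU.isoSpec.inv ≅
      Scheme.Modules.pushforward hU.isoSpec.hom :=
    AffPushPCLib.resIsoPush hU.isoSpec.inv ≪≫ Scheme.Modules.pushforwardCongr (IsIso.Iso.inv_inv _)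
  obtain ⟨d⟩ := nonempty_resD_congr hU.isoSpec_inv_ι (DCoh.toD X G)
  obtain ⟨c⟩ := Groth.Agent.PerfLib.nonempty_resD_comp hU.isoSpec.inv U.ι (DCoh.toD X G)
  exact ⟨DerivedCategory.Q.mapIso (((NatIso.mapHomologicalComplex ν (ComplexShape.up ℤ)).app
      ((DCoh.restrictCx U).obj G)).symm) ≪≫
    (Groth.Agent.PerfLib.resDQIso hU.isoSpec.inv ((DCoh.restrictCx U).obj G)).symm ≪≫
    (resD hU.isoSpec.inv).mapIso (Groth.Agent.PerfLib.resDQIso U.ι G).symm ≪≫ c.symm ≪≫ d⟩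

theorem mod_of_rep {E : DCoh.D X} {U : X.Opens} (hU : IsAffineOpen U) {M : Dual.D Γ(X, U)}
    (G : CochainComplex X.Modules ℤ) (eG : DCoh.toD X G ≅ E)
    (h : Nonempty ((DCoh.tildeD (X.presheaf.obj (op U))).obj M ≅
      DCoh.toD _ ((DerSch.pushCx hU.isoSpec.hom).obj ((DCoh.restrictCx U).obj G)))) : Mod E hU M := by
  obtain ⟨e⟩ := h
  obtain ⟨i⟩ := nonempty_pushIsoSpec hU G
  exact ⟨e ≪≫ i ≪≫ (resD hU.fromSpec).mapIso eG⟩

/-- On a chart, pseudo-coherence is that of the restriction of scalars. -/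
theorem chartPC_iff {E : DCoh.D X} {U : X.Opens} (hU : IsAffineOpen U) {V : S.Opens} {n : ℕ}
    (φ : MvPolynomial (Fin n) Γ(S, V) →+* Γ(X, U)) (hφ : Function.Surjective φ)
    {M : Dual.D Γ(X, U)} (hM : Mod E hU M) (m : ℤ) :
    DerSch.ChartPC m E U V φ ↔ RelPCLib.PV φ m M := by
  let A : CommRingCat.{u} := CommRingCat.of (MvPolynomial (Fin n) Γ(S, V))
  let ψ : A ⟶ X.presheaf.obj (op U) := CommRingCat.ofHom φ
  haveI : IsClosedImmersion (Spec.map ψ) := IsClosedImmersion.spec_of_surjective ψ hφ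
  haveI := KInjDerived.hasRightDerivedFunctor (DCoh.pushKh (Spec.map ψ))
    (KFlatLib.enoughKInj_modules (X := Spec (X.presheaf.obj (op U))))
  haveI : PreservesFiniteLimits (tilde.functor A) := tildeExact A
  haveI : PreservesFiniteLimits (tilde.functor (X.presheaf.obj (op U))) := tildeExact _
  obtain ⟨d⟩ := TildeDerLib.nonempty_rpushTildeDIso ψ
  obtain ⟨eM⟩ := hM
  have key : ∀ G : CochainComplex X.Modules ℤ, (DCoh.toD X G ≅ E) →
      Nonempty (DCoh.toD _ ((DerSch.pushCx (DerSch.chartImm U φ)).obj ((DCoh.restrictCx U).obj G)) ≅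
        (DCoh.tildeD A).obj ((DRing.restrictD φ).obj M)) := by
    intro G eG
    obtain ⟨i⟩ := nonempty_pushIsoSpec hU G
    obtain ⟨r⟩ := ProjClosedImmLib.nonempty_rpush_iso (Spec.map ψ)
      ((DerSch.pushCx hU.isoSpec.hom).obj ((DCoh.restrictCx U).obj G))
    let ν := Scheme.Modules.pushforwardComp hU.isoSpec.hom (Spec.map ψ)
    exact ⟨DerivedCategory.Q.mapIso (((NatIso.mapHomologicalComplex ν (ComplexShape.up ℤ)).app
        ((DCoh.restrictCx U).obj G)).symm) ≪≫ r.symm ≪≫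
      (DCoh.Rpush (Spec.map ψ)).mapIso (i ≪≫ (resD hU.fromSpec).mapIso eG ≪≫ eM.symm) ≪≫ d.app M⟩
  constructor
  · intro h
    obtain ⟨e⟩ : Nonempty (DerivedCategory.Q.obj (DerivedCategory.Q.objPreimage E) ≅ E) :=
      ⟨DerivedCategory.Q.objObjPreimageIso E⟩
    obtain ⟨k⟩ := key _ e
    exact TildePCLib.isPseudoCoherent_of_tildeD (Groth.Agent.PerfLib.isPC_of_iso k (h _ ⟨e⟩))
  · intro h G ⟨eG⟩
    obtain ⟨k⟩ := key G eG
    exact Groth.Agent.PerfLib.isPC_of_iso k.symm (TildePCLib.isPC_tildeD h)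

/-- Restriction to a smaller affine open. -/
theorem Mod.res {E : DCoh.D X} {U : X.Opens} {hU : IsAffineOpen U} {O : X.Opens} (hO : IsAffineOpen O)
    (i : O ≤ U) {K : DRing.Cx Γ(X, U)} (hM : Mod E hU (DRing.toD K)) :
    Mod E hO (DerivedCategory.Q.obj ((DRingLib.extCx (X.presheaf.map (homOfLE i).op).hom).obj K)) := by
  obtain ⟨eM⟩ := hM
  have hc : Spec.map (X.presheaf.map (homOfLE i).op) ≫ hU.fromSpec = hO.fromSpec :=
    hU.map_fromSpec hO (homOfLE i).op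
  haveI : IsOpenImmersion (Spec.map (X.presheaf.map (homOfLE i).op) ≫ hU.fromSpec) := by
    rw [hc]; infer_instance
  haveI hoi : IsOpenImmersion (Spec.map (X.presheaf.map (homOfLE i).op)) :=
    IsOpenImmersion.of_comp _ hU.fromSpec
  haveI : IsOpenImmersion
      (Spec.map (CommRingCat.ofHom (X.presheaf.map (homOfLE i).op).hom)) := hoi
  obtain ⟨t⟩ := TildePCLib.nonempty_resD_tilde (X.presheaf.map (homOfLE i).op).hom K
  obtain ⟨c⟩ := Groth.Agent.PerfLib.nonempty_resD_comp (Spec.map (X.presheaf.map (homOfLE i).op))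
    hU.fromSpec E
  obtain ⟨c'⟩ := nonempty_resD_congr hc E
  exact ⟨t.symm ≪≫ (resD (Spec.map (X.presheaf.map (homOfLE i).op))).mapIso eM ≪≫ c.symm ≪≫ c'⟩

/-- The ring level condition on a pair of affine opens. -/
def RPC (m : ℤ) (E : DCoh.D X) {U : X.Opens} (hU : IsAffineOpen U) (V : S.Opens) (h : U ≤ f ⁻¹ᵁ V) :
    Prop :=
  ∀ M, Mod E hU M → letI := (f.appLE V U h).hom.toAlgebra
    DerCA.IsRelPseudoCoherent Γ(S, V) Γ(X, U) m M

theorem finiteType_pair [LocallyOfFiniteType f] {U : X.Opens} (hU : IsAffineOpen U) {V : S.Opens}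
    (hV : IsAffineOpen V) (h : U ≤ f ⁻¹ᵁ V) :
    letI := (f.appLE V U h).hom.toAlgebra
    Algebra.FiniteType Γ(S, V) Γ(X, U) :=
  f.finiteType_appLE hV hU h

/-- A chart turns the ring condition into the chart condition. -/
theorem exists_chart_of_rpc [LocallyOfFiniteType f] {m : ℤ} {E : DCoh.D X} (hE : DCoh.IsQCohD E)
    {U : X.Opens} (hU : IsAffineOpen U) {V : S.Opens} (h : U ≤ f ⁻¹ᵁ V) (hr : RPC f m E hU V h) :
    ∃ (n : ℕ) (φ : MvPolynomial (Fin n) Γ(S, V) →+* Γ(X, U)),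
      DerSch.IsChart f U V h φ ∧ DerSch.ChartPC m E U V φ := by
  obtain ⟨M, hM⟩ := exists_mod hE hU
  letI := (f.appLE V U h).hom.toAlgebra
  obtain ⟨n, α, hα, hv⟩ := hr M hM
  refine ⟨n, α.toRingHom, ⟨hα, ?_⟩, (chartPC_iff hU α.toRingHom hα hM m).2 hv⟩
  exact α.comp_algebraMap

/-- A chart gives the ring condition. -/
theorem rpc_of_chart {m : ℤ} {E : DCoh.D X} {U : X.Opens} (hU : IsAffineOpen U) {V : S.Opens}
    (h : U ≤ f ⁻¹ᵁ V) {n : ℕ} (φ : MvPolynomial (Fin n) Γ(S, V) →+* Γ(X, U))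
    (hφ : DerSch.IsChart f U V h φ) (hc : DerSch.ChartPC m E U V φ) : RPC f m E hU V h := by
  intro M hM
  letI := (f.appLE V U h).hom.toAlgebra
  let α : MvPolynomial (Fin n) Γ(S, V) →ₐ[Γ(S, V)] Γ(X, U) :=
    { φ with commutes' := fun r => RingHom.congr_fun hφ.2 r }
  exact (RelPCLib.isRel_iff α hφ.1 M m).2 ((chartPC_iff hU φ hφ.1 hM m).1 hc)

/-- Passing to a basic open of the source. -/
theorem rpc_basic_source [LocallyOfFiniteType f] {m : ℤ} {E : DCoh.D X} (hE : DCoh.IsQCohD E)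
    {U O : X.Opens} (hU : IsAffineOpen U) (hO : IsAffineOpen O) (g : Γ(X, U)) (hg : O = X.basicOpen g)
    {V : S.Opens} (hV : IsAffineOpen V) (h : U ≤ f ⁻¹ᵁ V) (h' : O ≤ f ⁻¹ᵁ V)
    (hr : RPC f m E hU V h) : RPC f m E hO V h' := by
  intro N hN
  have i : O ≤ U := hg ▸ X.basicOpen_le g
  obtain ⟨M, hM⟩ := exists_mod hE hU
  obtain ⟨eK⟩ : Nonempty (DerivedCategory.Q.obj (DerivedCategory.Q.objPreimage M) ≅ M) :=
    ⟨DerivedCategory.Q.objObjPreimageIso M⟩
  have hM' : Mod E hU (DRing.toD (DerivedCategory.Q.objPreimage M)) := by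
    obtain ⟨e⟩ := hM
    exact ⟨(DCoh.tildeD _).mapIso eK ≪≫ e⟩
  obtain ⟨e⟩ := (hM'.res hO i).unique hN
  letI := (f.appLE V U h).hom.toAlgebra
  letI := (f.appLE V O h').hom.toAlgebra
  letI := (X.presheaf.map (homOfLE i).op).hom.toAlgebra
  haveI : IsScalarTower Γ(S, V) Γ(X, U) Γ(X, O) :=
    IsScalarTower.of_algebraMap_eq' (congrArg CommRingCat.Hom.hom
      (f.appLE_map h (homOfLE i).op)).symm
  haveI := finiteType_pair f hU hV h
  haveI : IsLocalization.Away g Γ(X, O) := hU.isLocalization_of_eq_basicOpen g (homOfLE i) hg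
  obtain ⟨k, β, hβ, hv⟩ := RelPCLib.isRel_away_of' (R := Γ(S, V)) (T := Γ(X, O)) g _ m (hr _ hM')
  exact ⟨k, β, hβ, RelPCLib.PV.of_iso e hv⟩

/-- Changing the target to a basic open. -/
theorem rpc_basic_target_iff [LocallyOfFiniteType f] {m : ℤ} {E : DCoh.D X}
    {U : X.Opens} (hU : IsAffineOpen U) {V W : S.Opens} (hV : IsAffineOpen V) (a : Γ(S, V))
    (ha : W = S.basicOpen a) (h : U ≤ f ⁻¹ᵁ V) (h' : U ≤ f ⁻¹ᵁ W) :
    RPC f m E hU W h' ↔ RPC f m E hU V h := by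
  have i : W ≤ V := ha ▸ S.basicOpen_le a
  letI := (f.appLE V U h).hom.toAlgebra
  letI := (f.appLE W U h').hom.toAlgebra
  letI := (S.presheaf.map (homOfLE i).op).hom.toAlgebra
  haveI : IsScalarTower Γ(S, V) Γ(S, W) Γ(X, U) :=
    IsScalarTower.of_algebraMap_eq' (congrArg CommRingCat.Hom.hom
      (f.map_appLE h' (homOfLE i).op)).symm
  haveI := finiteType_pair f hU hV h
  haveI : IsLocalization.Away a Γ(S, W) := hV.isLocalization_of_eq_basicOpen a (homOfLE i) ha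
  haveI := RelPCLib.finiteType_away (T := Γ(S, W)) a
  haveI : Algebra.FiniteType Γ(S, W) Γ(X, U) :=
    Algebra.FiniteType.of_restrictScalars_finiteType Γ(S, V) Γ(S, W) Γ(X, U)
  have hT := RelPCLib.isRelModule_away (A := Γ(S, V)) (T := Γ(S, W)) a
  exact forall_congr' fun M => imp_congr_right fun _ => RelPCLib.isRel_intermediate_iff hT M m

/-- The ring condition is local on the source. -/
theorem rpc_of_basic_cover [LocallyOfFiniteType f] {m : ℤ} {E : DCoh.D X}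
    {U : X.Opens} (hU : IsAffineOpen U) {V : S.Opens} (hV : IsAffineOpen V) (h : U ≤ f ⁻¹ᵁ V)
    {r : ℕ} (g : Fin r → Γ(X, U)) (hg : Ideal.span (Set.range g) = ⊤)
    (hr : ∀ i, RPC f m E (hU.basicOpen (g i)) V ((X.basicOpen_le (g i)).trans h)) :
    RPC f m E hU V h := by
  intro M hM
  obtain ⟨eK⟩ : Nonempty (DerivedCategory.Q.obj (DerivedCategory.Q.objPreimage M) ≅ M) :=
    ⟨DerivedCategory.Q.objObjPreimageIso M⟩
  have hM' : Mod E hU (DRing.toD (DerivedCategory.Q.objPreimage M)) := by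
    obtain ⟨e⟩ := hM
    exact ⟨(DCoh.tildeD _).mapIso eK ≪≫ e⟩
  letI := (f.appLE V U h).hom.toAlgebra
  letI : ∀ i, Algebra Γ(X, U) Γ(X, X.basicOpen (g i)) := fun i =>
    (X.presheaf.map (homOfLE (X.basicOpen_le (g i))).op).hom.toAlgebra
  letI : ∀ i, Algebra Γ(S, V) Γ(X, X.basicOpen (g i)) := fun i =>
    (f.appLE V (X.basicOpen (g i)) ((X.basicOpen_le (g i)).trans h)).hom.toAlgebra
  haveI : ∀ i, IsScalarTower Γ(S, V) Γ(X, U) Γ(X, X.basicOpen (g i)) := fun i =>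
    IsScalarTower.of_algebraMap_eq' (congrArg CommRingCat.Hom.hom
      (f.appLE_map h (homOfLE (X.basicOpen_le (g i))).op)).symm
  haveI := finiteType_pair f hU hV h
  haveI : ∀ i, IsLocalization.Away (g i) Γ(X, X.basicOpen (g i)) := fun i =>
    hU.isLocalization_of_eq_basicOpen (g i) (homOfLE (X.basicOpen_le (g i))) rfl
  obtain ⟨k, β, hβ, hv⟩ := RelPCLib.isRel_of_away' (R := Γ(S, V)) (DerivedCategory.Q.objPreimage M) m
    g hg (fun i => Γ(X, X.basicOpen (g i))) fun i =>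
      hr i _ (hM'.res (hU.basicOpen (g i)) (X.basicOpen_le (g i)))
  exact ⟨k, β, hβ, RelPCLib.PV.of_iso eK hv⟩

/-- The relative notion gives the ring condition on every pair of affine opens. -/
theorem rpc_of_rel {m : ℤ} {E : DCoh.D X} (hE : DCoh.IsQCohD E)
    (hrel : DerSch.IsPseudoCoherentRel f m E) {U : X.Opens} (hU : IsAffineOpen U) {V : S.Opens}
    (hV : IsAffineOpen V) (h : U ≤ f ⁻¹ᵁ V) : RPC f m E hU V h := by
  obtain ⟨hft, 𝒱, h𝒱, hc⟩ := hrel
  haveI := hft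
  have hx : ∀ x : U, ∃ g : Γ(X, U), (x : X) ∈ X.basicOpen g ∧
      RPC f m E (hU.basicOpen g) V ((X.basicOpen_le g).trans h) := by
    rintro ⟨x, hx⟩
    obtain ⟨V', hV'm, hfx'⟩ : ∃ V' ∈ 𝒱, f x ∈ (V' : S.Opens) := by
      have := h𝒱.ge (Opens.mem_top (f x))
      simpa [Opens.mem_iSup] using this
    obtain ⟨𝒰, h𝒰, hch⟩ := hc V' hV'm
    obtain ⟨U', hU'm, hxU'⟩ : ∃ U' ∈ 𝒰, x ∈ (U' : X.Opens) := by
      have := h𝒰.ge (show x ∈ f ⁻¹ᵁ (V' : S.Opens) from hfx')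
      simpa [Opens.mem_iSup] using this
    have h'' : (U' : X.Opens) ≤ f ⁻¹ᵁ (V' : S.Opens) := h𝒰 ▸ le_iSup₂ (f := fun (U : X.affineOpens) (_ : U ∈ 𝒰) => (U : X.Opens)) U' hU'm
    obtain ⟨n, φ, hφ, hpc⟩ := hch U' hU'm h''
    have hr' : RPC f m E U'.2 (V' : S.Opens) h'' := rpc_of_chart f U'.2 h'' φ hφ hpc
    obtain ⟨a, a', haa, hfa⟩ := exists_basicOpen_le_affine_inter hV V'.2 (f x) ⟨h hx, hfx'⟩
    obtain ⟨g₁, g₁', hgg, hxg₁⟩ := exists_basicOpen_le_affine_inter hU U'.2 x ⟨hx, hxU'⟩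
    obtain ⟨g₂, hg₂, hxg₂⟩ := hU.exists_basicOpen_le
      (V := X.basicOpen g₁ ⊓ f ⁻¹ᵁ S.basicOpen a) ⟨x, hxg₁, hfa⟩ hx
    obtain ⟨g', hg'⟩ := U'.2.basicOpen_basicOpen_is_basicOpen g₁'
      (X.presheaf.map (homOfLE (show X.basicOpen g₁' ≤ U from hgg ▸ X.basicOpen_le g₁)).op g₂)
    have hg'2 : X.basicOpen g₂ = X.basicOpen g' := by
      rw [hg', Scheme.basicOpen_res, ← hgg, inf_eq_right.2 (hg₂.trans inf_le_left)]
    refine ⟨g₂, hxg₂, ?_⟩
    have hW : X.basicOpen g₂ ≤ f ⁻¹ᵁ S.basicOpen a := hg₂.trans inf_le_right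
    have hV'2 : X.basicOpen g₂ ≤ f ⁻¹ᵁ (V' : S.Opens) :=
      hW.trans ((Opens.map f.base).map (homOfLE (haa ▸ S.basicOpen_le a'))).le
    exact (rpc_basic_target_iff f (hU.basicOpen g₂) hV a rfl _ hW).1
      ((rpc_basic_target_iff f (hU.basicOpen g₂) V'.2 a' haa hV'2 hW).2
        (rpc_basic_source f hE U'.2 (hU.basicOpen g₂) g' hg'2 V'.2 h'' hV'2 hr'))
  choose g hxg hg using hx
  have hspan : Ideal.span (Set.range g) = ⊤ := hU.self_le_iSup_basicOpen_iff.1 fun x hx => by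
    rw [Opens.mem_iSup]
    exact ⟨⟨g ⟨x, hx⟩, ⟨x, hx⟩, rfl⟩, hxg ⟨x, hx⟩⟩
  obtain ⟨t, hts, ht⟩ := (Ideal.span_eq_top_iff_finite _).1 hspan
  let e := t.equivFin
  have hval : ∀ i, ∃ x : U, g x = (e.symm i : Γ(X, U)) := fun i => hts (e.symm i).2
  choose y hy using hval
  refine rpc_of_basic_cover f hU hV h (fun i => g (y i)) ?_ fun i => hg (y i)
  rw [← ht]
  refine congrArg Ideal.span (Set.ext fun v => ⟨?_, fun hv => ⟨e ⟨v, hv⟩, ?_⟩⟩)
  · rintro ⟨i, rfl⟩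
    change g (y i) ∈ (t : Set Γ(X, U))
    rw [hy i]
    exact (e.symm i).2
  · change g (y (e ⟨v, hv⟩)) = v
    rw [hy, Equiv.symm_apply_apply]

/-- The ring condition on every pair gives the relative notion. -/
theorem rel_of_rpc [LocallyOfFiniteType f] {m : ℤ} {E : DCoh.D X} (hE : DCoh.IsQCohD E)
    (hr : ∀ (U : X.affineOpens) (V : S.affineOpens) (h : (U : X.Opens) ≤ f ⁻¹ᵁ (V : S.Opens)),
      RPC f m E U.2 (V : S.Opens) h) : DerSch.IsPseudoCoherentRel f m E := by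
  refine ⟨inferInstance, Set.univ, by simpa using iSup_affineOpens_eq_top S, fun V _ =>
    ⟨{U | (U : X.Opens) ≤ f ⁻¹ᵁ (V : S.Opens)}, ?_,
      fun U _ h => exists_chart_of_rpc f hE U.2 h (hr U V h)⟩⟩
  refine le_antisymm (iSup₂_le fun U hU => hU) fun x hx => ?_
  obtain ⟨_, ⟨W, hW, rfl⟩, hxW, hWV⟩ :=
    X.isBasis_affineOpens.exists_subset_of_mem_open hx (f ⁻¹ᵁ (V : S.Opens)).2
  exact Opens.mem_iSup.2 ⟨⟨W, hW⟩, Opens.mem_iSup.2 ⟨hWV, hxW⟩⟩

end Groth.Agent.FlatRelPCLib
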